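import Mathlib

/-!
Counting Sylow subgroups through normal subgroups (M. Hall's product formula).
-/

set_option autoImplicit false

namespace Cfsg.Agent.Lib.SylowNumber

open Subgroup
open Pointwise

variable {G : Type*} [Group G] {p : ℕ}

/-- `n_p(G) = [G : N_G(P)]`, phrased with the underlying subgroup. -/
theorem card_sylow_eq_index [Finite G] [Fact p.Prime] (P : Sylow p G) :
    Nat.card (Sylow p G) = (normalizer ((P : Subgroup G) : Set G)).index :=
  P.card_eq_index_normalizer

/-- For `P ≤ H` with `H.relIndex` : the number of Sylow `p`-subgroups of `H`. -/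
theorem card_sylow_eq_relIndex [Finite G] [Fact p.Prime] (P : Sylow p G) {H : Subgroup G}
    (hP : (P : Subgroup G) ≤ H) :
    Nat.card (Sylow p H) = (normalizer ((P : Subgroup G) : Set G)).relIndex H := by
  rw [card_sylow_eq_index (P.subtype hP), Sylow.coe_subtype,
    ← subgroupOf_normalizer_eq hP]
  rfl

/-- If `A ≤ B`, then `B` has the same relative index in `A ⊔ K` as in `K`, for normal `K`. -/
theorem relIndex_sup_normal [Finite G] (A B K : Subgroup G) [K.Normal] (hAB : A ≤ B) :
    B.relIndex (A ⊔ K) = B.relIndex K := by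
  have hle : K ≤ A ⊔ K := le_sup_right
  have key : (B ⊓ (A ⊔ K)) ⊔ K = A ⊔ K :=
    le_antisymm (sup_le inf_le_right hle) (sup_le (le_sup_of_le_left (le_inf hAB le_sup_left)) le_sup_right)
  have e1 : K.relIndex (A ⊔ K) = K.relIndex (B ⊓ (A ⊔ K)) := by
    conv_lhs => rw [← key]
    exact relIndex_sup_right _ _
  have t1 := relIndex_mul_relIndex (B ⊓ (A ⊔ K) ⊓ K) (B ⊓ (A ⊔ K)) (A ⊔ K) inf_le_left inf_le_right
  have t2 := relIndex_mul_relIndex (B ⊓ (A ⊔ K) ⊓ K) K (A ⊔ K) inf_le_right hle
  rw [inf_relIndex_left, inf_relIndex_right] at t1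
  rw [inf_relIndex_right, e1] at t2
  have h3 : (B ⊓ (A ⊔ K)).relIndex K = B.relIndex K := by
    rw [← inf_relIndex_right (B ⊓ (A ⊔ K)) K, inf_assoc, inf_eq_right.mpr hle, inf_relIndex_right]
  rw [h3] at t2
  have hpos : K.relIndex (B ⊓ (A ⊔ K)) ≠ 0 := index_ne_zero_of_finite
  exact Nat.eq_of_mul_eq_mul_left (Nat.pos_of_ne_zero hpos) (by rw [t1, ← t2, mul_comm])

/-- `n_p(G) = n_p(G/K) · [K : N_K(P)]`. -/
theorem card_sylow_eq_quotient_mul_relIndex [Finite G] [Fact p.Prime] (K : Subgroup G) [K.Normal]
    (P : Sylow p G) :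
    Nat.card (Sylow p G) =
      Nat.card (Sylow p (G ⧸ K)) * (normalizer ((P : Subgroup G) : Set G)).relIndex K := by
  set N := normalizer ((P : Subgroup G) : Set G) with hN
  have hs : Function.Surjective (QuotientGroup.mk' K) := QuotientGroup.mk'_surjective K
  have hker : (QuotientGroup.mk' K).ker = K := QuotientGroup.ker_mk' K
  set Pb : Sylow p (G ⧸ K) := P.mapSurjective hs with hPb
  set M := (normalizer ((Pb : Subgroup (G ⧸ K)) : Set (G ⧸ K))).comap (QuotientGroup.mk' K) with hM
  have hPb' : (Pb : Subgroup (G ⧸ K)) = (P : Subgroup G).map (QuotientGroup.mk' K) :=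
    Sylow.coe_mapSurjective hs P
  have hcomap : (Pb : Subgroup (G ⧸ K)).comap (QuotientGroup.mk' K) = (P : Subgroup G) ⊔ K := by
    rw [hPb', comap_map_eq, hker]
  have hMN : M = N ⊔ K := by
    apply le_antisymm
    · intro g hg
      rw [hM, mem_comap] at hg
      have hle : ((g • P : Sylow p G) : Subgroup G) ≤ (P : Subgroup G) ⊔ K := by
        rw [← hcomap]
        intro y hy
        rw [Sylow.coe_subgroup_smul] at hy
        obtain ⟨z, hz, rfl⟩ := (mem_map (f := (MulAut.conj g).toMonoidHom)).1 hy
        rw [mem_comap]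
        have hz' : QuotientGroup.mk' K z ∈ (Pb : Subgroup (G ⧸ K)) := by
          rw [hPb']; exact mem_map_of_mem _ hz
        have := (mem_normalizer_iff.1 hg (QuotientGroup.mk' K z)).1 hz'
        simpa using this
      obtain ⟨h, hh⟩ := MulAction.exists_smul_eq (((P : Subgroup G) ⊔ K : Subgroup G))
        (P.subtype (le_sup_left (b := K))) ((g • P).subtype hle)
      have hh2 : (h : G) • P = g • P := by
        rw [Sylow.smul_subtype] at hh
        exact Sylow.subtype_injective hh
      have hmem : ((h : G)⁻¹ * g) ∈ N := by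
        show ((h : G)⁻¹ * g) ∈ normalizer (P : Set G)
        rw [← Sylow.smul_eq_iff_mem_normalizer, mul_smul, ← hh2, inv_smul_smul]
      have hh3 : (h : G) ∈ N ⊔ K :=
        (sup_le (le_sup_of_le_left le_normalizer) le_sup_right :
          (P : Subgroup G) ⊔ K ≤ N ⊔ K) h.2
      simpa using mul_mem hh3 (mem_sup_left hmem : (h : G)⁻¹ * g ∈ N ⊔ K)
    · refine sup_le ?_ ?_
      · intro g hg
        rw [hM, mem_comap, mem_normalizer_iff]
        intro y
        rw [hPb']
        constructor
        · rintro ⟨z, hz, rfl⟩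
          exact ⟨g * z * g⁻¹, (mem_normalizer_iff.1 hg z).1 hz, by simp⟩
        · rintro ⟨z, hz, hzy⟩
          refine ⟨g⁻¹ * z * g, ?_, by rw [map_mul, map_mul, hzy]; simp [mul_assoc]⟩
          have hg' := N.inv_mem hg
          show g⁻¹ * z * g ∈ (P : Subgroup G)
          simpa using (mem_normalizer_iff.1 hg' z).1 hz
      · intro g hg
        rw [hM, mem_comap]
        have : QuotientGroup.mk' K g = 1 := by
          rw [← MonoidHom.mem_ker, hker]; exact hg
        rw [this]; exact one_mem _
  have h1 : Nat.card (Sylow p (G ⧸ K)) = M.index := by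
    rw [card_sylow_eq_index Pb, hM, index_comap_of_surjective _ hs]
  have h2 : N.relIndex M = N.relIndex K := by
    rw [hMN]; exact relIndex_sup_normal N N K le_rfl
  rw [card_sylow_eq_index P, h1, ← h2, mul_comm,
    relIndex_mul_index (by rw [hMN]; exact le_sup_left)]

/-- Quotient by a normal subgroup normalising a Sylow subgroup preserves the Sylow number. -/
theorem card_sylow_quotient_of_le_normalizer [Finite G] [Fact p.Prime] (K : Subgroup G) [K.Normal]
    (P : Sylow p G) (h : K ≤ normalizer ((P : Subgroup G) : Set G)) :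
    Nat.card (Sylow p (G ⧸ K)) = Nat.card (Sylow p G) := by
  rw [card_sylow_eq_quotient_mul_relIndex K P, relIndex_eq_one.2 h, mul_one]

theorem card_sylow_quotient_center [Finite G] [Fact p.Prime] :
    Nat.card (Sylow p (G ⧸ center G)) = Nat.card (Sylow p G) := by
  have P : Sylow p G := default
  refine card_sylow_quotient_of_le_normalizer _ P ?_
  intro z hz
  rw [mem_normalizer_iff]
  intro y
  rw [← mem_center_iff.1 hz y, mul_inv_cancel_right]

theorem card_sylow_quotient_of_isPGroup [Finite G] [Fact p.Prime] (K : Subgroup G) [K.Normal]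
    (hK : IsPGroup p K) : Nat.card (Sylow p (G ⧸ K)) = Nat.card (Sylow p G) := by
  have P : Sylow p G := default
  exact card_sylow_quotient_of_le_normalizer _ P ((hK.le_sylow_of_normal P).trans le_normalizer)

/-- All Sylow subgroups lie in a normal subgroup of index prime to `p`. -/
theorem card_sylow_of_normal_not_dvd_index [Finite G] [Fact p.Prime] (H : Subgroup G) [H.Normal]
    (hp : ¬ p ∣ H.index) : Nat.card (Sylow p H) = Nat.card (Sylow p G) := by
  have P : Sylow p G := default
  have hPH : (P : Subgroup G) ≤ H := by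
    have h1 : IsPGroup p ((P : Subgroup G).map (QuotientGroup.mk' H)) := P.2.map _
    obtain ⟨n, hn⟩ := h1.exists_card_eq
    have h2 := card_subgroup_dvd_card ((P : Subgroup G).map (QuotientGroup.mk' H))
    rw [hn, ← index_eq_card] at h2
    have h3 : n = 0 := by
      by_contra hc
      exact hp ((dvd_pow_self p hc).trans h2)
    rw [h3, pow_zero] at hn
    have h4 := eq_bot_of_card_eq _ hn
    rw [Subgroup.map_eq_bot_iff, QuotientGroup.ker_mk'] at h4
    exact h4
  have hU : Subsingleton (Sylow p (G ⧸ H)) := by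
    constructor
    intro A B
    have hb : ∀ C : Sylow p (G ⧸ H), (C : Subgroup (G ⧸ H)) = ⊥ := by
      intro C
      obtain ⟨n, hn⟩ := C.2.exists_card_eq
      have h2 := card_subgroup_dvd_card (C : Subgroup (G ⧸ H))
      rw [hn, ← index_eq_card] at h2
      rcases Nat.eq_zero_or_pos n with h3 | h3
      · rw [h3, pow_zero] at hn
        exact eq_bot_of_card_eq _ hn
      · exact absurd ((dvd_pow_self p h3.ne').trans h2) hp
    exact Sylow.ext ((hb A).trans (hb B).symm)
  rw [card_sylow_eq_quotient_mul_relIndex H P, Nat.card_unique (α := Sylow p (G ⧸ H)), one_mul,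
    card_sylow_eq_relIndex P hPH]

/-- M. Hall's product formula. -/
theorem card_sylow_product_formula [Finite G] [Fact p.Prime] (K : Subgroup G) [K.Normal]
    (P : Sylow p G) (N : Subgroup G)
    (hN : N = ((P : Subgroup G) ⊔ K) ⊓ normalizer (((P : Subgroup G) ⊓ K : Subgroup G) : Set G))
    [(((P : Subgroup G) ⊓ K).subgroupOf N).Normal] :
    Nat.card (Sylow p G) = Nat.card (Sylow p (G ⧸ K)) * Nat.card (Sylow p K) *
      Nat.card (Sylow p (N ⧸ ((P : Subgroup G) ⊓ K).subgroupOf N)) := by
  set D := (P : Subgroup G) ⊓ K with hD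
  set NP := normalizer ((P : Subgroup G) : Set G) with hNP
  set ND := normalizer ((D : Subgroup G) : Set G) with hND
  set H := (P : Subgroup G) ⊔ K with hH
  have hPD : NP ≤ ND := by
    intro g hg
    rw [hND, mem_normalizer_iff]
    intro y
    rw [hD, mem_inf, mem_inf, ← mem_normalizer_iff.1 hg y]
    constructor
    · rintro ⟨a, b⟩; exact ⟨a, Normal.conj_mem inferInstance y b g⟩
    · rintro ⟨a, b⟩
      refine ⟨a, ?_⟩
      simpa [mul_assoc] using Normal.conj_mem (inferInstance : K.Normal) _ b g⁻¹
  have hPN : (P : Subgroup G) ≤ N := by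
    rw [hN]; exact le_inf le_sup_left (le_normalizer.trans hPD)
  -- a Sylow `p`-subgroup of `K`
  have hDK : ¬ p ∣ (D.subgroupOf K).index := by
    intro hdvd
    have h1 : (D.subgroupOf K).index = (P : Subgroup G).relIndex K := by
      show D.relIndex K = _
      rw [hD, inf_relIndex_right]
    rw [h1] at hdvd
    have h2 := (P : Subgroup G).inf_relIndex_left K
    have h3 : K.relIndex H = K.relIndex (P : Subgroup G) := relIndex_sup_right _ _
    have t1 := relIndex_mul_relIndex D (P : Subgroup G) H inf_le_left le_sup_left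
    have t2 := relIndex_mul_relIndex D K H inf_le_right le_sup_right
    rw [hD, inf_relIndex_left, inf_relIndex_right] at *
    rw [h3] at t2
    have h4 : (P : Subgroup G).relIndex K = (P : Subgroup G).relIndex H := by
      have hpos : K.relIndex (P : Subgroup G) ≠ 0 := index_ne_zero_of_finite
      exact Nat.eq_of_mul_eq_mul_left (Nat.pos_of_ne_zero hpos) (by rw [t1, ← t2, mul_comm])
    exact P.not_dvd_index (hdvd.trans (h4 ▸ Dvd.intro _ (relIndex_mul_index le_sup_left)))
  have hDp : IsPGroup p (D.subgroupOf K) :=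
    (P.2.to_le (inf_le_left : D ≤ (P : Subgroup G))).comap_subtype
  obtain ⟨T, hT⟩ : ∃ T : Sylow p K, (T : Subgroup K) = D.subgroupOf K :=
    ⟨hDp.toSylow hDK, IsPGroup.toSylow_coe _ _⟩
  have hnK : Nat.card (Sylow p K) = ND.relIndex K := by
    rw [card_sylow_eq_index T, hT, ← subgroupOf_normalizer_eq (inf_le_right : D ≤ K)]
    rfl
  have hnN : Nat.card (Sylow p (N ⧸ D.subgroupOf N)) = NP.relIndex N := by
    have hDN : IsPGroup p (D.subgroupOf N) :=
      (P.2.to_le (inf_le_left : D ≤ (P : Subgroup G))).comap_subtype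
    rw [card_sylow_quotient_of_isPGroup _ hDN, card_sylow_eq_relIndex P hPN]
  rw [card_sylow_eq_quotient_mul_relIndex K P, hnK, hnN, mul_assoc]
  congr 1
  rw [← relIndex_sup_normal (P : Subgroup G) NP K le_normalizer,
    ← relIndex_sup_normal (P : Subgroup G) ND K (le_normalizer.trans hPD), ← hH,
    ← inf_relIndex_right NP H, ← inf_relIndex_right ND H, mul_comm]
  have e : N = ND ⊓ H := by rw [hN, inf_comm]
  rw [e]
  have e2 : NP.relIndex (ND ⊓ H) = (NP ⊓ H).relIndex (ND ⊓ H) := by
    rw [← inf_relIndex_right NP (ND ⊓ H), ← inf_relIndex_right (NP ⊓ H) (ND ⊓ H)]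
    rw [inf_assoc, inf_eq_right.mpr (inf_le_right : ND ⊓ H ≤ H)]
  rw [e2]
  exact (relIndex_mul_relIndex _ _ _ (inf_le_inf_right H hPD) inf_le_right).symm

end Cfsg.Agent.Lib.SylowNumber
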