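import Cfsg.Agent.Lib.SylowNumber.Basic

/-!
M. Hall's factorisation of Sylow numbers: a product of prime powers congruent to `1` mod `p`
and Sylow numbers of simple groups (composition factors).
-/

set_option autoImplicit false

namespace Cfsg.Agent.Lib.SylowNumber

open Subgroup

universe u

variable {p : ℕ}

/-- A `p`-group normalising a `p'`-group `K` normalises a Sylow `q`-subgroup of `K` containing a
given `P`-invariant (here: centralised) `q`-subgroup. -/
theorem exists_invariant_sylow {G : Type u} [Group G] [Finite G] [Fact p.Prime] {q : ℕ}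
    [Fact q.Prime] (P K R : Subgroup G) (hP : IsPGroup p P) (hK : ¬ p ∣ Nat.card K)
    (hPK : P ≤ normalizer (K : Set G)) (hPR : P ≤ normalizer (R : Set G)) (hR : IsPGroup q R)
    (hRK : R ≤ K) :
    ∃ S : Subgroup G, R ≤ S ∧ S ≤ K ∧ IsPGroup q S ∧ P ≤ normalizer (S : Set G) ∧
      ¬ q ∣ S.relIndex K := by
  classical
  obtain ⟨S, ⟨hRS, hSK, hS, hPS⟩, hmax⟩ :=
    (Set.toFinite {S : Subgroup G | R ≤ S ∧ S ≤ K ∧ IsPGroup q S ∧
      P ≤ normalizer (S : Set G)}).exists_maximal ⟨R, le_rfl, hRK, hR, hPR⟩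
  refine ⟨S, hRS, hSK, hS, hPS, fun hdvd => ?_⟩
  set N : Subgroup G := K ⊓ normalizer (S : Set G) with hN
  have hPN : P ≤ normalizer (N : Set G) := by
    intro g hg
    rw [mem_normalizer_iff]
    intro y
    have h2 : ∀ s, s ∈ S ↔ g * s * g⁻¹ ∈ S := mem_normalizer_iff.1 (hPS hg)
    have hg' := hPS hg
    rw [hN, mem_inf, mem_inf, ← mem_normalizer_iff.1 (hPK hg) y]
    refine and_congr_right fun _ => ⟨fun hy => mul_mem (mul_mem hg' hy) (inv_mem hg'), fun hy => ?_⟩
    have := mul_mem (mul_mem (inv_mem hg') hy) hg'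
    simpa [mul_assoc] using this
  let f : P →* MulAut N := (normalizerMonoidHom N).comp (Subgroup.inclusion hPN)
  letI : MulAction P (Sylow q N) := MulAction.compHom _ f
  have hnd : ¬ p ∣ Nat.card (Sylow q N) := by
    intro h
    have T : Sylow q N := default
    exact hK (h.trans ((T.card_dvd_index).trans ((T : Subgroup N).index_dvd_card.trans
      (Subgroup.card_dvd_of_le inf_le_left))))
  obtain ⟨T, hT⟩ := hP.nonempty_fixed_point_of_prime_not_dvd_card (Sylow q N) hnd
  have hSN : S ≤ N := le_inf hSK le_normalizer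
  haveI : (S.subgroupOf N).Normal := Subgroup.normal_subgroupOf_of_le_normalizer inf_le_right
  have hST : S ≤ (T : Subgroup N).map N.subtype := by
    intro s hs
    exact ⟨⟨s, hSN hs⟩,
      (IsPGroup.le_sylow_of_normal (N := S.subgroupOf N) (hS.comap_subtype) T) hs, rfl⟩
  have hTP : P ≤ normalizer (((T : Subgroup N).map N.subtype : Subgroup G) : Set G) := by
    have key : ∀ a : P, ∀ x : N, x ∈ (T : Subgroup N) →
        ∃ y ∈ (T : Subgroup N), (y : G) = (a : G) * x * (a : G)⁻¹ := by
      intro a x hx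
      refine ⟨f a x, ?_, rfl⟩
      have h3 : f a • T = T := hT a
      have h4 : f a x ∈ ((f a • T : Sylow q N) : Subgroup N) := ⟨x, hx, rfl⟩
      rwa [h3] at h4
    intro g hg
    rw [mem_normalizer_iff]
    intro y
    constructor
    · rintro ⟨x, hx, rfl⟩
      obtain ⟨z, hz, hz'⟩ := key ⟨g, hg⟩ x hx
      exact ⟨z, hz, hz'⟩
    · rintro ⟨x, hx, hx'⟩
      obtain ⟨z, hz, hz'⟩ := key ⟨g⁻¹, inv_mem hg⟩ x hx
      refine ⟨z, hz, ?_⟩
      rw [Subgroup.coe_subtype] at hx' ⊢
      rw [hz', hx']
      simp [mul_assoc]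
  have hle := hmax ⟨hRS.trans hST, (Subgroup.map_subtype_le _).trans inf_le_left, T.2.map _, hTP⟩ hST
  have hST' : (T : Subgroup N) = S.subgroupOf N := by
    rw [le_antisymm hST hle, Subgroup.subgroupOf, Subgroup.comap_map_eq_self_of_injective N.subtype_injective]
  have h1 : ¬ q ∣ (S.subgroupOf N).index := hST' ▸ T.not_dvd_index
  obtain ⟨n, hn⟩ := hS.exists_card_eq
  have hSK' : Nat.card (S.subgroupOf K) = q ^ n := by
    rw [Nat.card_congr (Subgroup.subgroupOfEquivOfLe hSK).toEquiv, hn]
  have hidx : (normalizer ((S.subgroupOf K : Subgroup K) : Set K)) = N.subgroupOf K := by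
    rw [← subgroupOf_normalizer_eq hSK, hN, inf_comm, inf_subgroupOf_right]
  have hdvd' : q ^ (n + 1) ∣ Nat.card K := by
    rw [← card_mul_index (S.subgroupOf K), hSK', pow_succ]
    exact mul_dvd_mul_left _ hdvd
  have h2 := Sylow.prime_pow_dvd_card_normalizer (n := n) hdvd' hSK'
  rw [hidx, Nat.card_congr (Subgroup.subgroupOfEquivOfLe (inf_le_left : N ≤ K)).toEquiv,
    ← card_mul_index (S.subgroupOf N), Nat.card_congr (Subgroup.subgroupOfEquivOfLe hSN).toEquiv,
    hn, pow_succ] at h2
  exact h1 (Nat.dvd_of_mul_dvd_mul_left (pow_pos (Fact.out : q.Prime).pos n) h2)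

/-- Coprime action: the `ℓ`-part of `[K : N_K(P)]` is congruent to `1` mod `p` when `P` is a
Sylow `p`-subgroup and `K` a normal `p'`-subgroup. -/
theorem ordProj_relIndex_modEq_one {G : Type u} [Group G] [Finite G] [Fact p.Prime] (K : Subgroup G)
    [K.Normal] (P : Sylow p G) (hK : ¬ p ∣ Nat.card K) (ℓ : ℕ) :
    ℓ ^ ((normalizer ((P : Subgroup G) : Set G)).relIndex K).factorization ℓ ≡ 1 [MOD p] := by
  by_cases hl : ℓ.Prime
  swap
  · rw [Nat.factorization_eq_zero_of_not_prime _ hl, pow_zero]
  haveI : Fact ℓ.Prime := ⟨hl⟩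
  set C : Subgroup G := normalizer ((P : Subgroup G) : Set G) ⊓ K with hC
  have hcent : ∀ c ∈ C, ∀ a ∈ (P : Subgroup G), a * c * a⁻¹ = c := by
    intro c hc a ha
    have h1 : c * a * c⁻¹ ∈ (P : Subgroup G) := (mem_normalizer_iff.1 hc.1 a).1 ha
    have h2 : a * c * a⁻¹ * c⁻¹ ∈ K := mul_mem (Normal.conj_mem inferInstance c hc.2 a) (inv_mem hc.2)
    have h3 : a * c * a⁻¹ * c⁻¹ ∈ (P : Subgroup G) := by
      have := mul_mem ha (inv_mem h1)
      simpa [mul_assoc] using this
    have h4 : orderOf (a * c * a⁻¹ * c⁻¹) = 1 := by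
      obtain ⟨k, hk⟩ := (IsPGroup.iff_orderOf.1 P.2) ⟨_, h3⟩
      rw [Subgroup.orderOf_mk] at hk
      rcases Nat.eq_zero_or_pos k with hk0 | hk0
      · rw [hk, hk0, pow_zero]
      · exfalso
        apply hK
        refine ((dvd_pow_self p hk0.ne').trans (dvd_of_eq hk.symm)).trans ?_
        have := orderOf_dvd_natCard (⟨_, h2⟩ : K)
        rwa [Subgroup.orderOf_mk] at this
    exact mul_inv_eq_one.1 (orderOf_eq_one_iff.1 h4)
  have Q0 : Sylow ℓ C := default
  set R := (Q0 : Subgroup C).map C.subtype with hR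
  have hRC : R ≤ C := map_subtype_le _
  have hPR : (P : Subgroup G) ≤ normalizer (R : Set G) := by
    intro a ha
    rw [mem_normalizer_iff]
    intro y
    constructor
    · intro hy; rwa [hcent y (hRC hy) a ha]
    · intro hy
      have := hcent _ (hRC hy) a⁻¹ (inv_mem ha)
      have e : a⁻¹ * (a * y * a⁻¹) * a⁻¹⁻¹ = y := by simp [mul_assoc]
      rw [e] at this
      rwa [this]
  have hPK : (P : Subgroup G) ≤ normalizer (K : Set G) := by
    rw [normalizer_eq_top]; exact le_top
  obtain ⟨S, hRS, hSK, hS, hPS, hSi⟩ :=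
    exists_invariant_sylow (P : Subgroup G) K R P.2 hK hPK hPR (Q0.2.map _) (hRC.trans inf_le_right)
  -- index bookkeeping
  set D := S ⊓ C with hD
  have hDi : ¬ ℓ ∣ D.relIndex C := by
    intro h
    have h1 : R ≤ D := le_inf hRS hRC
    have h2 := relIndex_mul_relIndex R D C h1 inf_le_right
    have h3 : R.relIndex C = (Q0 : Subgroup C).index := by
      show (R.subgroupOf C).index = _
      rw [hR, Subgroup.subgroupOf, comap_map_eq_self_of_injective C.subtype_injective]
    exact Q0.not_dvd_index (h.trans (h3 ▸ h2 ▸ Dvd.intro_left _ rfl))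
  have hmul : D.relIndex C * C.relIndex K = D.relIndex S * S.relIndex K := by
    rw [relIndex_mul_relIndex D C K inf_le_right inf_le_right,
      relIndex_mul_relIndex D S K inf_le_left hSK]
  have hCK : C.relIndex K = (normalizer ((P : Subgroup G) : Set G)).relIndex K :=
    inf_relIndex_right _ _
  rw [hCK] at hmul
  obtain ⟨m, hm⟩ : ∃ m, D.relIndex S = ℓ ^ m := by
    obtain ⟨n, hn⟩ := hS.exists_card_eq
    obtain ⟨m, -, hm⟩ := (Nat.dvd_prime_pow hl).1
      (hn ▸ (D.subgroupOf S).index_dvd_card : D.relIndex S ∣ ℓ ^ n)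
    exact ⟨m, hm⟩
  have h0 : (normalizer ((P : Subgroup G) : Set G)).relIndex K ≠ 0 := index_ne_zero_of_finite
  have hfac : ((normalizer ((P : Subgroup G) : Set G)).relIndex K).factorization ℓ = m := by
    have := congrArg (fun n => Nat.factorization n ℓ) hmul
    have hD0 : D.relIndex C ≠ 0 := index_ne_zero_of_finite
    have hS0 : S.relIndex K ≠ 0 := index_ne_zero_of_finite
    simp only [Nat.factorization_mul hD0 h0, hm, Nat.factorization_mul (pow_ne_zero m hl.ne_zero) hS0,
      Finsupp.add_apply, Nat.factorization_eq_zero_of_not_dvd hDi,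
      Nat.factorization_eq_zero_of_not_dvd hSi, zero_add, add_zero, hl.factorization_pow,
      Finsupp.single_eq_same] at this
    exact this
  rw [hfac, ← hm]
  -- orbit counting on cosets
  let f : (P : Subgroup G) →* MulAut S := (normalizerMonoidHom S).comp (Subgroup.inclusion hPS)
  have hf : ∀ a x, ((f a x : S) : G) = (a : G) * x * (a : G)⁻¹ := fun a x => rfl
  set D' := D.subgroupOf S with hD'
  have hfix : ∀ a x, x ∈ D' → f a x = x := fun a x hx =>
    Subtype.ext ((hf a x).trans (hcent _ (mem_subgroupOf.1 hx).2 a a.2))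
  letI : MulAction (P : Subgroup G) (S ⧸ D') :=
    { smul := fun a => Quotient.map' (f a) (by
        intro x y hxy
        rw [QuotientGroup.leftRel_apply] at hxy ⊢
        rwa [← map_inv, ← map_mul, hfix a _ hxy])
      one_smul := by
        rintro ⟨x⟩
        exact congrArg (QuotientGroup.mk (s := D')) (show f 1 x = x by rw [map_one]; rfl)
      mul_smul := by
        rintro a b ⟨x⟩
        exact congrArg (QuotientGroup.mk (s := D')) (show f (a * b) x = f a (f b x) by rw [map_mul]; rfl) }
  have huniq : ∀ x : S ⧸ D', x ∈ MulAction.fixedPoints (P : Subgroup G) (S ⧸ D') →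
      x = ((1 : S) : S ⧸ D') := by
    rintro ⟨x⟩ hx
    apply Quotient.sound'
    rw [QuotientGroup.leftRel_apply, mul_one, inv_mem_iff, mem_subgroupOf]
    refine ⟨x.2, ⟨?_, hSK x.2⟩⟩
    show (x : G) ∈ normalizer ((P : Subgroup G) : Set G)
    rw [mem_normalizer_iff]
    have key : ∀ a ∈ (P : Subgroup G), a * x * a⁻¹ = (x : G) := by
      intro a ha
      have h1 : (x⁻¹ * f ⟨a, ha⟩ x) ∈ D' := QuotientGroup.eq.1 (hx ⟨a, ha⟩).symm
      set c : G := (x : G)⁻¹ * (a * x * a⁻¹) with hc
      have hcD : c ∈ D := mem_subgroupOf.1 h1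
      have hca : Commute c a := by
        have := hcent c hcD.2 a ha
        calc c * a = a * c * a⁻¹ * a := by rw [this]
          _ = a * c := by simp [mul_assoc]
      obtain ⟨j, hj⟩ : ∃ j, orderOf c = ℓ ^ j := by
        obtain ⟨j, hj⟩ := IsPGroup.iff_orderOf.1 hS ⟨c, hcD.1⟩
        exact ⟨j, by rwa [Subgroup.orderOf_mk] at hj⟩
      obtain ⟨i, hi⟩ : ∃ i, orderOf a = p ^ i := by
        obtain ⟨i, hi⟩ := IsPGroup.iff_orderOf.1 P.2 ⟨a, ha⟩
        exact ⟨i, by rwa [Subgroup.orderOf_mk] at hi⟩
      have hcop : (orderOf c).Coprime (orderOf a) := by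
        rw [hj, hi]
        rcases Nat.eq_zero_or_pos j with h | h
        · rw [h, pow_zero]; exact Nat.coprime_one_left _
        · refine Nat.Coprime.pow _ _ ((Nat.coprime_primes hl Fact.out).2 ?_)
          rintro rfl
          apply hK
          have := orderOf_dvd_natCard (⟨c, hSK hcD.1⟩ : K)
          rw [Subgroup.orderOf_mk, hj] at this
          exact (dvd_pow_self _ h.ne').trans this
      have h2 := hca.orderOf_mul_eq_mul_orderOf_of_coprime hcop
      have h3 : orderOf (c * a) = orderOf a := by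
        rw [show c * a = (x : G)⁻¹ * a * x by rw [hc]; simp [mul_assoc]]
        exact orderOf_injective (MulAut.conj (x : G)⁻¹).toMonoidHom (MulEquiv.injective _) a |>.symm
          |> fun h => by simpa [mul_assoc] using h.symm
      rw [h3] at h2
      have h4 : orderOf c = 1 := Nat.eq_of_mul_eq_mul_right (orderOf_pos a) (by rw [← h2, one_mul])
      exact (inv_mul_eq_one.1 (orderOf_eq_one_iff.1 h4)).symm
    intro y
    constructor
    · intro hy
      have : (x : G) * y * (x : G)⁻¹ = y := by
        have := key y hy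
        calc (x : G) * y * (x : G)⁻¹ = (y * x * y⁻¹) * y * (x : G)⁻¹ := by rw [this]
          _ = y := by simp [mul_assoc]
      rwa [this]
    · intro hy
      have h5 := key _ hy
      have : (x : G) * y * (x : G)⁻¹ = y := by
        have h6 : y * (x : G) * y⁻¹ = x := by
          have := congrArg (fun t => (x : G)⁻¹ * t * x) h5
          simpa [mul_assoc] using this
        calc (x : G) * y * (x : G)⁻¹ = (y * x * y⁻¹) * y * (x : G)⁻¹ := by rw [h6]
          _ = y := by simp [mul_assoc]
      rwa [this] at hy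
  have h1 := P.2.card_modEq_card_fixedPoints (S ⧸ D')
  have h2 : Nat.card (MulAction.fixedPoints (P : Subgroup G) (S ⧸ D')) = 1 := by
    rw [Nat.card_eq_one_iff_unique]
    refine ⟨⟨fun a b => Subtype.ext ((huniq _ a.2).trans (huniq _ b.2).symm)⟩,
      ⟨⟨((1 : S) : S ⧸ D'), fun a => ?_⟩⟩⟩
    show (((f a 1 : S)) : S ⧸ D') = _
    rw [map_one]
  rw [h2] at h1
  exact h1

/-- Induction principle for Sylow numbers. -/
theorem sylowNumber_induction [Fact p.Prime] (Q : ℕ → Prop) (h1 : Q 1)
    (hmul : ∀ a b, Q a → Q b → Q (a * b))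
    (hpp : ∀ ℓ k, ℓ.Prime → ℓ ^ k ≡ 1 [MOD p] → 0 < k → Q (ℓ ^ k))
    {G : Type u} [Group G] [Finite G]
    (hsimple : ∀ (S : Type u) [Group S] [Finite S], IsSimpleGroup S →
      (Group.IsSolvable G → Group.IsSolvable S) → Nat.card S ≤ Nat.card G →
      Q (Nat.card (Sylow p S))) :
    Q (Nat.card (Sylow p G)) := by
  induction hn : Nat.card G using Nat.strong_induction_on generalizing G with
  | _ n ih =>
    subst hn
    rcases subsingleton_or_nontrivial G with hG | hG
    · have P : Sylow p G := default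
      rw [Nat.dvd_one.1 ((P.card_dvd_index).trans
        ((index_dvd_card _).trans (dvd_of_eq Nat.card_unique)))]
      exact h1
    by_cases hs : IsSimpleGroup G
    · exact hsimple G hs id le_rfl
    obtain ⟨K, hK, hKb, hKt⟩ : ∃ K : Subgroup G, K.Normal ∧ K ≠ ⊥ ∧ K ≠ ⊤ := by
      by_contra h
      push Not at h
      exact hs ⟨fun K hK => or_iff_not_imp_left.2 (h K hK)⟩
    have P : Sylow p G := default
    have IH : ∀ (H : Type u) [Group H] [Finite H], Nat.card H < Nat.card G →
        (Group.IsSolvable G → Group.IsSolvable H) → Q (Nat.card (Sylow p H)) := by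
      intro H _ _ hlt hsol
      exact ih (Nat.card H) hlt
        (fun S _ _ hS hSs hSc => hsimple S hS (fun h => hSs (hsol h)) (hSc.trans hlt.le)) rfl
    have hq : Q (Nat.card (Sylow p (G ⧸ K))) := by
      refine IH _ ?_ (fun h => ?_)
      · rw [← index_eq_card, ← card_mul_index K]
        exact lt_mul_of_one_lt_left (Nat.pos_of_ne_zero index_ne_zero_of_finite)
          ((one_lt_card_iff_ne_bot K).2 hKb)
      · haveI := h; exact Group.isSolvable_of_surjective (QuotientGroup.mk'_surjective K)
    have hKlt : Nat.card K < Nat.card G :=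
      lt_of_le_of_ne (card_le_card_group K) fun h => hKt (eq_top_of_card_eq K h)
    set D := (P : Subgroup G) ⊓ K with hD
    set N := ((P : Subgroup G) ⊔ K) ⊓ normalizer ((D : Subgroup G) : Set G) with hN
    haveI hDN : (D.subgroupOf N).Normal :=
      Subgroup.normal_subgroupOf_of_le_normalizer inf_le_right
    by_cases hcase : N = ⊤ ∧ D = ⊥
    · -- `G = P K` with `K` a `p'`-group
      obtain ⟨hNt, hDb⟩ := hcase
      have hPK : (P : Subgroup G) ⊔ K = ⊤ := top_le_iff.1 (hNt ▸ inf_le_left)
      have hKp : ¬ p ∣ Nat.card K := by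
        intro hdvd
        obtain ⟨x, hx⟩ := exists_prime_orderOf_dvd_card' p hdvd
        have hxp : IsPGroup p (zpowers (x : G)) := IsPGroup.of_card (n := 1) (by
          rw [Nat.card_zpowers, Subgroup.orderOf_coe, hx, pow_one])
        obtain ⟨R, hR⟩ := hxp.exists_le_sylow
        obtain ⟨g, rfl⟩ := MulAction.exists_smul_eq G P R
        obtain ⟨z, hz, hzx⟩ := hR (mem_zpowers (x : G))
        have hzx' : g * z * g⁻¹ = (x : G) := hzx
        have hzK : z ∈ K := by
          have := Normal.conj_mem (inferInstance : K.Normal) _ x.2 g⁻¹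
          rw [← hzx'] at this
          simpa [mul_assoc] using this
        have hz1 : z ∈ (⊥ : Subgroup G) := hDb ▸ ⟨hz, hzK⟩
        rw [mem_bot] at hz1
        rw [hz1, mul_one, mul_inv_cancel] at hzx'
        rw [show x = 1 from Subtype.ext hzx'.symm, orderOf_one] at hx
        exact (Fact.out : p.Prime).one_lt.ne hx
      have hU : Nat.card (Sylow p (G ⧸ K)) = 1 := by
        have hs := QuotientGroup.mk'_surjective K
        have htop : ((P.mapSurjective hs : Sylow p (G ⧸ K)) : Subgroup (G ⧸ K)) = ⊤ := by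
          rw [Sylow.coe_mapSurjective, ← top_le_iff, ← Subgroup.map_top_of_surjective _ hs, ← hPK,
            Subgroup.map_sup]
          refine sup_le le_rfl ?_
          rw [QuotientGroup.map_mk'_self]
          exact bot_le
        rw [card_sylow_eq_index (P.mapSurjective hs), htop, normalizer_eq_top, index_top]
      rw [card_sylow_eq_quotient_mul_relIndex K P, hU, one_mul]
      set n := (normalizer ((P : Subgroup G) : Set G)).relIndex K with hn'
      have h0 : n ≠ 0 := index_ne_zero_of_finite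
      rw [← Nat.prod_factorization_pow_eq_self h0, Finsupp.prod]
      refine Finset.prod_induction _ Q hmul h1 fun ℓ hl => ?_
      exact hpp ℓ _ (Nat.prime_of_mem_primeFactors (Nat.support_factorization n ▸ hl))
        (ordProj_relIndex_modEq_one K P hKp ℓ) (Nat.pos_of_ne_zero (Finsupp.mem_support_iff.1 hl))
    · rw [card_sylow_product_formula K P N rfl]
      refine hmul _ _ (hmul _ _ hq (IH _ hKlt (fun h => by haveI := h; infer_instance))) ?_
      refine IH _ ?_ (fun h => by haveI := h; infer_instance)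
      rcases not_and_or.1 hcase with hNt | hDb
      · refine lt_of_le_of_lt (card_quotient_dvd_card _ |> Nat.le_of_dvd Nat.card_pos) ?_
        exact lt_of_le_of_ne (card_le_card_group N) fun h => hNt (eq_top_of_card_eq N h)
      · refine lt_of_lt_of_le ?_ (card_le_card_group N)
        rw [← index_eq_card, ← card_mul_index (D.subgroupOf N)]
        refine lt_mul_of_one_lt_left (Nat.pos_of_ne_zero index_ne_zero_of_finite) ?_
        have hDN' : D ≤ N := le_inf (inf_le_left.trans le_sup_left) le_normalizer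
        rw [Nat.card_congr (Subgroup.subgroupOfEquivOfLe hDN').toEquiv]
        exact (one_lt_card_iff_ne_bot D).2 hDb

/-- A Sylow number admitting no factorisation is realised by a simple group. -/
theorem exists_simple_of_atomic [Fact p.Prime] {n : ℕ} (hn : n ≠ 1) (hpp : ¬ IsPrimePow n)
    (hdiv : ∀ m, m ∣ n → m % p = 1 → m = 1 ∨ m = n)
    {G : Type u} [Group G] [Finite G] (hG : Nat.card (Sylow p G) = n) :
    ∃ (S : Type u) (_ : Group S) (_ : Finite S),
      IsSimpleGroup S ∧ ¬ IsMulCommutative S ∧ Nat.card (Sylow p S) = n := by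
  by_contra hno
  push Not at hno
  have key : ∀ {m : ℕ}, m % p = 1 → ∀ k, m ^ k % p = 1 % p := fun {m} hm k => by
    rw [Nat.pow_mod, hm, one_pow]
  have h := sylowNumber_induction (p := p)
    (fun m => m % p = 1 ∧ (m ∣ n → m = 1)) ⟨Nat.one_mod_eq_one.2 (Fact.out : p.Prime).ne_one, fun _ => rfl⟩
    (fun a b ha hb => ⟨by rw [Nat.mul_mod, ha.1, hb.1]; exact Nat.one_mod_eq_one.2 (Fact.out : p.Prime).ne_one,
      fun h => by rw [ha.2 ((dvd_mul_right a b).trans h), hb.2 ((dvd_mul_left b a).trans h)]⟩)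
    (fun ℓ k hl hk hk0 => ⟨Nat.mod_eq_of_lt (Fact.out : p.Prime).one_lt ▸ hk, fun h => by
      rcases hdiv _ h (Nat.mod_eq_of_lt (Fact.out : p.Prime).one_lt ▸ hk) with h' | h'
      · exact h'
      · exact absurd (h' ▸ hl.isPrimePow.pow hk0.ne') hpp⟩)
    (G := G) (fun S _ _ hS _ _ => ⟨?_, fun h => ?_⟩)
  · exact hn (hG ▸ h.2 (dvd_of_eq hG))
  · exact Nat.mod_eq_of_lt (Fact.out : p.Prime).one_lt ▸ card_sylow_modEq_one p S
  · rcases hdiv _ h (Nat.mod_eq_of_lt (Fact.out : p.Prime).one_lt ▸ card_sylow_modEq_one p S) with h' | h'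
    · exact h'
    · exfalso
      by_cases hc : IsMulCommutative S
      · have P : Sylow p S := default
        have hPn : (P : Subgroup S).Normal := ⟨fun a ha g => by
          rwa [hc.1.1 g a, mul_inv_cancel_right]⟩
        rw [card_sylow_eq_index P, normalizer_eq_top, index_top] at h'
        exact hn h'.symm
      · exact hno S inferInstance inferInstance hS hc h'

end Cfsg.Agent.Lib.SylowNumber
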