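import Cfsg.Agent.Lib.SylowNumber.Factor
import Cfsg.Agent.Lib.SmallGroups.Basic

/-!
Brodkey's theorem and simple groups with fewer than `p ^ 2` Sylow `p`-subgroups.
-/

set_option autoImplicit false

namespace Cfsg.Agent.Lib.SylowNumber

open Subgroup
open Pointwise
open scoped commutatorElement

variable {G : Type*} [Group G] {p : ℕ}

/-- Brodkey: with abelian Sylow subgroups, two Sylow subgroups meet in the intersection of all. -/
theorem exists_inf_le_sylow_of_commutative [Finite G] [Fact p.Prime]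
    (hab : ∀ P : Sylow p G, ∀ a ∈ (P : Subgroup G), ∀ b ∈ (P : Subgroup G), a * b = b * a) :
    ∃ P Q : Sylow p G, ∀ R : Sylow p G, (P : Subgroup G) ⊓ Q ≤ R := by
  classical
  obtain ⟨D, ⟨P, Q, rfl⟩, hmin⟩ :=
    (Set.toFinite {D : Subgroup G | ∃ P Q : Sylow p G, (P : Subgroup G) ⊓ Q = D}).exists_minimal
      ⟨_, default, default, rfl⟩
  refine ⟨P, Q, fun R => ?_⟩
  set D := (P : Subgroup G) ⊓ Q with hD
  set C := centralizer (D : Set G) with hC
  have hPC : (P : Subgroup G) ≤ C := fun a ha => mem_centralizer_iff.2 fun d hd => hab P d hd.1 a ha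
  have hQC : (Q : Subgroup G) ≤ C := fun a ha => mem_centralizer_iff.2 fun d hd => hab Q d hd.2 a ha
  obtain ⟨U, hU⟩ := ((R.2.to_le (inf_le_left : (R : Subgroup G) ⊓ C ≤ R)).comap_subtype :
    IsPGroup p (((R : Subgroup G) ⊓ C).subgroupOf C)).exists_le_sylow
  obtain ⟨c, rfl⟩ := MulAction.exists_smul_eq C (P.subtype hPC) U
  rw [Sylow.smul_subtype, Sylow.coe_subtype] at hU
  have hle : (R : Subgroup G) ⊓ C ≤ (((c : G) • P : Sylow p G) : Subgroup G) :=
    fun y hy => mem_subgroupOf.1 (hU (x := ⟨y, hy.2⟩) hy)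
  have hfix : ∀ d ∈ D, (c : G) * d * (c : G)⁻¹ = d := fun d hd => by
    have := mem_centralizer_iff.1 c.2 d hd
    rw [← this, mul_inv_cancel_right]
  have hcQ : (((c : G) • Q : Sylow p G) : Subgroup G) ≤ C := by
    intro y hy
    rw [Sylow.coe_subgroup_smul] at hy
    obtain ⟨z, hz, rfl⟩ := hy
    exact mul_mem (mul_mem c.2 (hQC hz)) (inv_mem c.2)
  have hsub : (R : Subgroup G) ⊓ (((c : G) • Q : Sylow p G) : Subgroup G) ≤ D := by
    intro y hy
    have h1 : y ∈ (((c : G) • P : Sylow p G) : Subgroup G) := hle ⟨hy.1, hcQ hy.2⟩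
    have h2 := hy.2
    rw [Sylow.coe_subgroup_smul] at h1 h2
    obtain ⟨z, hz, rfl⟩ := h1
    obtain ⟨w, hw, hw'⟩ := h2
    have e : w = z := (MulAut.conj (c : G)).injective hw'
    subst e
    show (c : G) * w * (c : G)⁻¹ ∈ D
    rw [hfix w ⟨hz, hw⟩]
    exact ⟨hz, hw⟩
  exact (hmin ⟨R, _, rfl⟩ hsub).trans inf_le_left

/-- A simple group with fewer than `p ^ 2` Sylow `p`-subgroups has Sylow subgroups of order `p`. -/
theorem card_sylow_eq_prime_of_lt_sq [Finite G] [IsSimpleGroup G] (hG : ¬ IsMulCommutative G)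
    [Fact p.Prime] (hp : p ∣ Nat.card G) (hn : Nat.card (Sylow p G) < p ^ 2) (P : Sylow p G) :
    Nat.card (P : Subgroup G) = p := by
  classical
  have hpr : p.Prime := Fact.out
  -- kernel of the conjugation action
  have hker : ∀ g : G, (∀ Q : Sylow p G, g • Q = Q) → g = 1 := by
    intro g hg
    have h1 : g ∈ (MulAction.toPermHom G (Sylow p G)).ker := Equiv.ext hg
    rcases (MonoidHom.normal_ker (MulAction.toPermHom G (Sylow p G))).eq_bot_or_eq_top with h | h
    · rwa [h, mem_bot] at h1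
    · exfalso
      refine SmallGroups.normalizer_sylow_ne_top hG hp default ((eq_top_iff' _).2 fun a => ?_)
      have h2 : a ∈ (MulAction.toPermHom G (Sylow p G)).ker := h ▸ mem_top a
      exact Sylow.smul_eq_iff_mem_normalizer.1 (Equiv.ext_iff.1 h2 default)
  have hstab : ∀ (S Q : Sylow p G), Q ≠ S → ((S : Subgroup G) ⊓ Q).relIndex (S : Subgroup G) = p ∧
      ∀ g : G, g ∈ (S : Subgroup G) → (g • Q = Q ↔ g ∈ (Q : Subgroup G)) := by
    intro S Q hQS
    have hfix : ∀ g : G, g ∈ (S : Subgroup G) → (g • Q = Q ↔ g ∈ (Q : Subgroup G)) := by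
      intro g hg
      rw [Sylow.smul_eq_iff_mem_normalizer]
      refine ⟨fun h => ?_, fun h => le_normalizer h⟩
      have h2 : g ∈ (S : Subgroup G) ⊓ normalizer ((Q : Subgroup G) : Set G) := ⟨hg, h⟩
      exact (le_of_eq (S.2.inf_normalizer_sylow Q) h2).2
    refine ⟨?_, hfix⟩
    have hst : MulAction.stabilizer (S : Subgroup G) Q = (Q : Subgroup G).subgroupOf (S : Subgroup G) := by
      ext g
      rw [MulAction.mem_stabilizer_iff, mem_subgroupOf]
      exact hfix g g.2
    have hidx : (MulAction.stabilizer (S : Subgroup G) Q).index =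
        ((S : Subgroup G) ⊓ Q).relIndex (S : Subgroup G) := by
      rw [hst, inf_relIndex_left]; rfl
    obtain ⟨k, hk⟩ := S.2.exists_card_eq
    obtain ⟨j, -, hj⟩ := (Nat.dvd_prime_pow hpr).1
      (hk ▸ (MulAction.stabilizer (S : Subgroup G) Q).index_dvd_card)
    have hle : p ^ j ≤ Nat.card (Sylow p G) := by
      rw [← hj, MulAction.index_stabilizer, ← Set.ncard_univ]
      exact Set.ncard_le_ncard (Set.subset_univ _) Set.finite_univ
    have hj1 : j ≠ 0 := by
      rintro rfl
      rw [pow_zero, index_eq_one, hst, subgroupOf_eq_top] at hj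
      exact hQS (Sylow.ext (eq_of_le_of_card_ge hj
        (by rw [S.card_eq_multiplicity, Q.card_eq_multiplicity])).symm)
    have hj2 : j < 2 := (Nat.pow_lt_pow_iff_right hpr.one_lt).1 (hle.trans_lt hn)
    rw [← hidx, hj, show j = 1 by omega, pow_one]
  have hab : ∀ S : Sylow p G, ∀ a ∈ (S : Subgroup G), ∀ b ∈ (S : Subgroup G), a * b = b * a := by
    intro S a ha b hb
    rw [← commutatorElement_eq_one_iff_mul_comm]
    refine hker _ fun Q => ?_
    rcases eq_or_ne Q S with rfl | hQS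
    · rw [Sylow.smul_eq_iff_mem_normalizer]
      exact le_normalizer (by
        rw [commutatorElement_def]
        exact mul_mem (mul_mem (mul_mem ha hb) (inv_mem ha)) (inv_mem hb))
    obtain ⟨hidx, hfix⟩ := hstab S Q hQS
    have hcm : ⁅a, b⁆ ∈ (S : Subgroup G) := by
      rw [commutatorElement_def]
      exact mul_mem (mul_mem (mul_mem ha hb) (inv_mem ha)) (inv_mem hb)
    rw [hfix _ hcm]
    set T := ((S : Subgroup G) ⊓ Q).subgroupOf (S : Subgroup G) with hT
    have hTi : T.index = p := hidx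
    obtain ⟨k, hk⟩ := S.2.exists_card_eq
    have hk0 : k ≠ 0 := by
      rintro rfl
      rw [pow_zero] at hk
      exact S.ne_bot_of_dvd_card hp (eq_bot_of_card_eq _ hk)
    haveI : T.Normal := by
      refine Subgroup.normal_of_index_eq_minFac_card ?_
      rw [hTi, hk, Nat.pow_minFac hk0, hpr.minFac_eq]
    haveI : IsCyclic ((S : Subgroup G) ⧸ T) := isCyclic_of_prime_card (p := p) hTi
    have h1 : ⁅(⟨a, ha⟩ : (S : Subgroup G)), (⟨b, hb⟩ : (S : Subgroup G))⁆ ∈ T := by
      rw [← QuotientGroup.eq_one_iff]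
      show QuotientGroup.mk' T _ = 1
      rw [map_commutatorElement, commutatorElement_eq_one_iff_mul_comm]
      letI := IsCyclic.commGroup (α := (S : Subgroup G) ⧸ T)
      exact mul_comm _ _
    exact (mem_subgroupOf.1 h1).2
  obtain ⟨S, Q, hSQ⟩ := exists_inf_le_sylow_of_commutative hab
  have hbot : (S : Subgroup G) ⊓ Q = ⊥ := eq_bot_iff.2 fun g hg => mem_bot.2 (hker g fun R =>
    Sylow.smul_eq_iff_mem_normalizer.2 (le_normalizer (hSQ R hg)))
  have hne : Q ≠ S := by
    rintro rfl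
    rw [inf_idem] at hbot
    exact Q.ne_bot_of_dvd_card hp hbot
  have h := (hstab S Q hne).1
  rw [hbot, relIndex_bot_left] at h
  rw [P.card_eq_multiplicity, ← S.card_eq_multiplicity, h]

end Cfsg.Agent.Lib.SylowNumber
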